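import Cfsg.Agent.H52.MTwelve.Bot.Data
import Cfsg.Agent.H52.MTwelve.Top.Data
import Cfsg.Agent.H26.M12Cover

/-!
A group generated by seven elements satisfying the relations below is `M12` (or trivial).

The meaning in `M12` of the seven generators `x 0, …, x 6`: `x 0` has order 4 and `t = (x 0) ^ 2` is an involution
fixing 4 of the 12 points, the others are involutions; `x 1` is fixed-point-free and so is `x 5`;
`C(t) = ⟨x 0, …, x 4⟩` (order 192); `⟨x 0, x 1, x 2, x 3, x 5⟩` (order 192) is the normaliser of a four-group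
containing `t`; `C(x 1) = ⟨x 0, x 1, x 2, x 5, x 6⟩` (order 240); `⟨x 0, x 1, x 2⟩` (order 16) is the common
part of the three and `⟨x 0, x 1, x 2, x 3⟩`, `⟨x 0, x 1, x 2, x 5⟩` (orders 64, 48) their pairwise meets.
Besides the relations inside the three subgroups a single one links them: `(x 6 * x 4) ^ 3 = 1`.
-/

set_option autoImplicit false
set_option maxRecDepth 100000

namespace H52.MTwelve

open Cfsg H52.TCert

universe u

/-- The letters: `x 0`, its inverse, and the other six generators. -/
def ev {K : Type*} [Group K] (x : Fin 7 → K) : Nat → K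
  | 0 => x 0
  | 1 => (x 0)⁻¹
  | 2 => x 1
  | 3 => x 2
  | 4 => x 3
  | 5 => x 4
  | 6 => x 5
  | 7 => x 6
  | _ => 1

/-- The relators. -/
def basic : List (List Nat) :=
  [[2, 2],
   [3, 3],
   [4, 4],
   [5, 5],
   [6, 6],
   [7, 7],
   [1, 2, 0, 2],
   [2, 3, 5, 0, 3, 5],
   [4, 5, 4, 5, 4, 5],
   [0, 2, 3, 4, 2, 4, 0],
   [5, 0, 4, 0, 4, 5, 0],
   [0, 2, 1, 2],
   [0, 3, 0, 3],
   [2, 6, 0, 6, 0, 6, 0],
   [6, 0, 4, 6, 0, 6, 4, 0, 4],
   [3, 6, 0, 0, 6],
   [7, 0, 7, 0, 0, 7, 1],
   [0, 2, 3, 7, 1, 6, 0, 7],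
   [7, 5, 7, 5, 7, 5]]

/-- The relations hold. -/
def Rels {K : Type*} [Group K] (x : Fin 7 → K) : Prop := ∀ w ∈ basic, (w.map (ev x)).prod = 1

theorem rels_split : ∀ w ∈ Top.relators ++ Bot.relators,
    w ∈ basic ∨ w = [] ∨ w = [0, 1] ∨ w = [1, 0] := by decide +kernel

theorem squares : ∀ g < 8, 2 ≤ g → [g, g] ∈ basic := by decide +kernel

section Bound

variable {K : Type*} [Group K]

theorem valid {x : Fin 7 → K} (h : Rels x) (C : Cert) (he : C.eps = 8)
    (hi : C.inv = [1, 0, 2, 3, 4, 5, 6, 7, 8]) (hr : ∀ w ∈ C.rels, w ∈ Top.relators ++ Bot.relators)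
    {H : Subgroup K} (hs : ∀ g ∈ C.sub, ev x g ∈ H) : C.Valid (ev x) H where
  eps := by rw [he]; rfl
  inv g := by
    rw [Cert.flip, hi]
    have sq : ∀ g, g < 8 → 2 ≤ g → ev x g = (ev x g)⁻¹ := fun g h1 h2 =>
      (inv_eq_of_mul_eq_one_right (by simpa using h _ (squares g h1 h2))).symm
    match g with
    | 0 => rfl
    | 1 => exact (inv_inv _).symm
    | 2 => exact sq 2 (by norm_num) (by norm_num)
    | 3 => exact sq 3 (by norm_num) (by norm_num)
    | 4 => exact sq 4 (by norm_num) (by norm_num)
    | 5 => exact sq 5 (by norm_num) (by norm_num)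
    | 6 => exact sq 6 (by norm_num) (by norm_num)
    | 7 => exact sq 7 (by norm_num) (by norm_num)
    | 8 => exact inv_one.symm
    | n + 9 => exact inv_one.symm
  rels := fun w hw => by
    rcases rels_split w (hr w hw) with hb | rfl | rfl | rfl
    · exact h w hb
    · simp
    · simp [ev]
    · simp [ev]
  sub := hs

/-- The seven elements generate a group of order at most `95040`. -/
theorem card_closure_le [Finite K] {x : Fin 7 → K} (h : Rels x) :
    Nat.card (Subgroup.closure (Set.range x)) ≤ 95040 := by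
  have hsub : ∀ g ∈ Top.cert.sub, g ∈ Bot.cert.gens := by decide +kernel
  set L1 := Subgroup.closure (ev x '' {g | g ∈ Bot.cert.gens}) with hL1
  have h1 : Nat.card L1 ≤ Nat.card (⊥ : Subgroup K) * 192 :=
    Bot.cert_live ▸ Cert.card_le (valid h Bot.cert rfl rfl (fun w hw => List.mem_append_right _ hw)
      (fun g hg => by simp [Bot.cert] at hg)) Bot.cert_facts Bot.cert_closed
  have h2 : Nat.card (Subgroup.closure (ev x '' {g | g ∈ Top.cert.gens})) ≤ Nat.card L1 * 495 :=
    Top.cert_live ▸ Cert.card_le (valid h Top.cert rfl rfl (fun w hw => List.mem_append_left _ hw)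
      (fun g hg => Subgroup.subset_closure ⟨g, hsub g hg, rfl⟩)) Top.cert_facts Top.cert_closed
  rw [Subgroup.card_bot, one_mul] at h1
  have hle : Subgroup.closure (Set.range x) ≤ Subgroup.closure (ev x '' {g | g ∈ Top.cert.gens}) := by
    rw [Subgroup.closure_le]
    rintro _ ⟨i, rfl⟩
    refine Subgroup.subset_closure ?_
    fin_cases i
    exacts [⟨0, by decide, rfl⟩, ⟨2, by decide, rfl⟩, ⟨3, by decide, rfl⟩, ⟨4, by decide, rfl⟩,
      ⟨5, by decide, rfl⟩, ⟨6, by decide, rfl⟩, ⟨7, by decide, rfl⟩]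
  calc Nat.card (Subgroup.closure (Set.range x))
      ≤ Nat.card (Subgroup.closure (ev x '' {g | g ∈ Top.cert.gens})) :=
        Nat.card_le_card_of_injective _ (Subgroup.inclusion_injective hle)
    _ ≤ Nat.card L1 * 495 := h2
    _ ≤ 192 * 495 := Nat.mul_le_mul_right _ h1

end Bound

/-! ### The model -/

/-- The seven permutations, encoded, with the letters. -/
def letterC : List Nat :=
  [227578386318009578406903204956702752,
   232652365823391711183829569059784736,
   234127864083396158983920601914215425,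
   596654750537752186788767474980520034,
   983549310955746530506231437997410400,
   735500604421669808992593446508235808,
   638192922561873515343640573858296068,
   978239198764604640668953934463309856]

/-- The value of a word, encoded. -/
def wordC (w : List Nat) : Nat :=
  w.foldr (fun g c => H90.compN (letterC.getD g H90.idN) c) H90.idN

/-- Words for the three standard generators. -/
def anbWords : List (List Nat) :=
  [[0, 4, 2, 5, 6, 0, 5, 6], [7, 5, 0, 5, 7, 0, 4, 5], [0, 6, 5, 1, 6, 0, 5, 7]]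

theorem letters_ok : letterC.all (fun p =>
    H87.mem12 p && H90.packAux (fun i => H90.img p i) 24 == p) = true := by decide +kernel

theorem inverse_ok : wordC [0, 1] = H90.idN := by decide +kernel

theorem model_rels : basic.all (fun w => wordC w == H90.idN) = true := by decide +kernel

theorem anb_ok : anbWords.map wordC = [H97.MOut.dataM12.a, H97.MOut.dataM12.n, H97.MOut.dataM12.b] := by
  decide +kernel

theorem letter_exists (g : Fin 8) : ∃ σ : Spor.M12, H97.MOut.code σ.1 = letterC.getD g.val H90.idN := by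
  have hlen : g.val < letterC.length := g.isLt
  have h := List.all_eq_true.1 letters_ok _ (List.getElem_mem hlen)
  rw [Bool.and_eq_true] at h
  obtain ⟨σ, hσ⟩ := H87.exists_of_mem12 h.1
  exact ⟨σ, by
    rw [List.getD_eq_getElem _ _ hlen, H97.MOut.code_of_repr hσ]
    simpa using h.2⟩

/-- The generators of the model. -/
noncomputable def model (i : Fin 7) : Spor.M12 :=
  (letter_exists ⟨if i.val = 0 then 0 else i.val + 1, by split <;> omega⟩).choose

theorem code_model_ev : ∀ g < 8, H97.MOut.code (ev model g).1 = letterC.getD g H90.idN := by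
  have h : ∀ i : Fin 7, H97.MOut.code (model i).1 =
      letterC.getD (if i.val = 0 then 0 else i.val + 1) H90.idN := fun i =>
    (letter_exists ⟨if i.val = 0 then 0 else i.val + 1, by split <;> omega⟩).choose_spec
  intro g hg
  interval_cases g
  · exact h 0
  · obtain ⟨σ, hσ⟩ := letter_exists 1
    have e : model 0 * σ = 1 := by
      apply Subtype.ext
      apply H97.MOut.code_inj
      rw [Subgroup.coe_mul, H97.MOut.code_mul, h 0, hσ, Subgroup.coe_one, H97.MOut.code_one]
      decide +kernel
    rw [show ev model 1 = σ from inv_eq_of_mul_eq_one_right e]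
    exact hσ
  · exact h 1
  · exact h 2
  · exact h 3
  · exact h 4
  · exact h 5
  · exact h 6

theorem code_model_word : ∀ w : List Nat, (∀ g ∈ w, g < 8) →
    H97.MOut.code ((w.map (ev model)).prod).1 = wordC w
  | [], _ => H97.MOut.code_one
  | g :: w, h => by
    rw [List.map_cons, List.prod_cons, Subgroup.coe_mul, H97.MOut.code_mul,
      code_model_ev g (h g List.mem_cons_self),
      code_model_word w fun j hj => h j (List.mem_cons_of_mem _ hj)]
    rfl

theorem basic_lt : ∀ w ∈ basic, ∀ g ∈ w, g < 8 := by decide +kernel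

theorem rels_model : Rels model := fun w hw => by
  refine Subtype.ext (H97.MOut.code_inj ?_)
  rw [code_model_word w (basic_lt w hw), Subgroup.coe_one, H97.MOut.code_one]
  exact beq_iff_eq.1 (List.all_eq_true.1 model_rels w hw)

theorem model_generates : Subgroup.closure (Set.range model) = ⊤ := by
  set H : Subgroup (Equiv.Perm GolayPt) := (Subgroup.closure (Set.range model)).map Spor.M12.subtype with hH
  have hHG : H ≤ Spor.M12 := fun x hx => by
    obtain ⟨y, -, rfl⟩ := hx
    exact y.2
  have hlet : ∀ g, ev model g ∈ Subgroup.closure (Set.range model) := by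
    intro g
    match g with
    | 0 => exact Subgroup.subset_closure ⟨0, rfl⟩
    | 1 => exact inv_mem (Subgroup.subset_closure ⟨0, rfl⟩)
    | 2 => exact Subgroup.subset_closure ⟨1, rfl⟩
    | 3 => exact Subgroup.subset_closure ⟨2, rfl⟩
    | 4 => exact Subgroup.subset_closure ⟨3, rfl⟩
    | 5 => exact Subgroup.subset_closure ⟨4, rfl⟩
    | 6 => exact Subgroup.subset_closure ⟨5, rfl⟩
    | 7 => exact Subgroup.subset_closure ⟨6, rfl⟩
    | n + 8 => exact one_mem _
  have hgen : ∀ p ∈ [H97.MOut.dataM12.a, H97.MOut.dataM12.n, H97.MOut.dataM12.b],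
      ∃ σ ∈ H, H97.MOut.code σ = p := by
    intro p hp
    rw [← anb_ok, List.mem_map] at hp
    obtain ⟨w, hw, rfl⟩ := hp
    have hlt : ∀ w ∈ anbWords, ∀ g ∈ w, g < 8 := by decide +kernel
    exact ⟨_, ⟨_, Subgroup.list_prod_mem _ fun y hy => by
      obtain ⟨g, -, rfl⟩ := List.mem_map.1 hy
      exact hlet g, rfl⟩, code_model_word w (hlt w hw)⟩
  have hch := H26.M12Schur.chains_M12'
  simp only [H97.MOut.checkChains, Bool.and_eq_true, beq_iff_eq, List.all_eq_true, decide_eq_true_eq,
    List.mem_range] at hch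
  obtain ⟨⟨⟨⟨⟨hnodes, hokA⟩, hsA⟩, -⟩, -⟩, hidx⟩ := hch
  have hnode : ∀ i < H97.MOut.dataM12.nodes.length,
      ∃ σ ∈ H, H97.MOut.code σ = H97.MOut.nodeV H97.MOut.dataM12 i := by
    intro i
    induction i using Nat.strong_induction_on with
    | _ i ih =>
    intro hi
    have h := hnodes i hi
    simp only [H97.MOut.nodeOK] at h
    split_ifs at h with h0 h1 h2 h3
    · exact ⟨1, one_mem _, by rw [H97.MOut.code_one]; exact (beq_iff_eq.1 h).symm⟩
    · rw [beq_iff_eq.1 h]; exact hgen _ (by simp)
    · rw [beq_iff_eq.1 h]; exact hgen _ (by simp)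
    · rw [beq_iff_eq.1 h]; exact hgen _ (by simp)
    · simp only [Bool.and_eq_true, decide_eq_true_eq, beq_iff_eq] at h
      obtain ⟨σ, hσ, eσ⟩ := ih _ h.1.1 (by omega)
      obtain ⟨τ, hτ, eτ⟩ := ih _ h.1.2 (by omega)
      exact ⟨σ * τ, mul_mem hσ hτ, by rw [H97.MOut.code_mul, eσ, eτ, h.2]⟩
  obtain ⟨hHeq, -⟩ := H97.MOut.chain_exhausts hHG H87.natCard_M12 hokA hsA fun l hl u hu => by
    obtain ⟨l', hl', rfl⟩ := List.mem_map.1 hl
    obtain ⟨i, hi, rfl⟩ := List.mem_map.1 hu
    exact hnode i (hidx l' (List.mem_append_left _ hl') i hi)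
  refine eq_top_iff.2 fun σ _ => ?_
  have hσ : σ.1 ∈ H := hHeq.symm ▸ σ.2
  obtain ⟨y, hy, he⟩ := hσ
  exact Subtype.ext he ▸ hy

/-! ### Recognition -/

/-- A nontrivial finite group generated by seven elements with these relations is `M12`. -/
theorem isoM12_of_rels {G : Type u} [Group G] [Finite G] [Nontrivial G] (x : Fin 7 → G) (hx : Rels x)
    (hgen : Subgroup.closure (Set.range x) = ⊤) : Spor.IsoM12 G := by
  let z : Fin 7 → Spor.M12 × G := fun i => (model i, x i)
  have hev : ∀ g, ev z g = (ev model g, ev x g) := by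
    intro g
    match g with
    | 0 => rfl
    | 1 => rfl
    | 2 => rfl
    | 3 => rfl
    | 4 => rfl
    | 5 => rfl
    | 6 => rfl
    | 7 => rfl
    | n + 8 => rfl
  have hz : Rels z := fun w hw => by
    have h1 := map_list_prod (MonoidHom.fst Spor.M12 G) (w.map (ev z))
    have h2 := map_list_prod (MonoidHom.snd Spor.M12 G) (w.map (ev z))
    rw [List.map_map] at h1 h2
    have e1 : (MonoidHom.fst Spor.M12 G) ∘ ev z = ev model := funext fun g => congrArg Prod.fst (hev g)
    have e2 : (MonoidHom.snd Spor.M12 G) ∘ ev z = ev x := funext fun g => congrArg Prod.snd (hev g)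
    rw [e1, rels_model w hw] at h1
    rw [e2, hx w hw] at h2
    exact Prod.ext h1 h2
  set D := Subgroup.closure (Set.range z) with hD
  let p : D →* Spor.M12 := (MonoidHom.fst Spor.M12 G).comp D.subtype
  let q : D →* G := (MonoidHom.snd Spor.M12 G).comp D.subtype
  have surj : ∀ {A : Type u} [Group A] (f : Spor.M12 × G →* A),
      Subgroup.closure (Set.range fun i => f (z i)) = ⊤ → Function.Surjective (f.comp D.subtype) := by
    intro A _ f hf
    rw [← MonoidHom.range_eq_top, eq_top_iff, ← hf, Subgroup.closure_le]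
    rintro _ ⟨i, rfl⟩
    exact ⟨⟨z i, Subgroup.subset_closure ⟨i, rfl⟩⟩, rfl⟩
  have hq : Function.Surjective q := surj (MonoidHom.snd Spor.M12 G) hgen
  have hp : Function.Surjective p := by
    rw [← MonoidHom.range_eq_top, eq_top_iff, ← model_generates, Subgroup.closure_le]
    rintro _ ⟨i, rfl⟩
    exact ⟨⟨z i, Subgroup.subset_closure ⟨i, rfl⟩⟩, rfl⟩
  have hcard : Nat.card D = Nat.card Spor.M12 :=
    le_antisymm (H87.natCard_M12.symm ▸ card_closure_le hz) (Nat.card_le_card_of_surjective p hp)
  have hpi : Function.Bijective p :=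
    (Nat.bijective_iff_surjective_and_card p).2 ⟨hp, hcard⟩
  let φ : Spor.M12 →* G := q.comp (MulEquiv.ofBijective p hpi).symm.toMonoidHom
  have hφ : Function.Surjective φ := hq.comp (MulEquiv.ofBijective p hpi).symm.surjective
  haveI := H26.M12Schur.M12_simple
  have hk : φ.ker = ⊥ := by
    rcases φ.normal_ker.eq_bot_or_eq_top with h | h
    · exact h
    · exfalso
      obtain ⟨g, hg⟩ := exists_ne (1 : G)
      obtain ⟨y, rfl⟩ := hφ g
      exact hg (MonoidHom.mem_ker.1 (h ▸ Subgroup.mem_top y))
  exact ⟨(MulEquiv.ofBijective φ ⟨(MonoidHom.ker_eq_bot_iff φ).1 hk, hφ⟩).symm⟩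

end H52.MTwelve
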